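import Mathlib
import Cfsg.Agent.Lib.ChTab.Int
import Cfsg.Agent.Lib.ChTab.Enum4
import Cfsg.Agent.Lib.MathRec.Stab

/-!
A simple group of order 6048: the principal 7-block and the 3-elements.
-/

set_option autoImplicit false

namespace CfsgLib.SmallRec

open Cfsg CfsgLib.Char CfsgLib.Block CfsgLib.DefectOne CfsgLib.DefectOne.B43 CfsgLib.Tuan
  CfsgLib.ChTab CfsgLib.MathRec Subgroup Finset MulAction

variable {G : Type*} [Group G] [Finite G]

open Classical in
theorem X_eq {p : ℕ} [Fact p.Prime] {x : G} {ζ : ℂ} (D : PrinData p x ζ) {a b : ℤ}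
    (hl : (([a, b] : List ℤ) : Multiset ℤ) = SX D) : ∃ α β : IrrCharacter G, α ≠ irrOne G ∧
      β ≠ irrOne G ∧ α ≠ β ∧ D.X = {irrOne G, α, β} ∧ sd D α = a ∧ sd D β = b := by
  obtain ⟨α, h1, h2, h3⟩ := (Multiset.map_eq_cons (sd D) (D.X.erase (irrOne G)).val {b} a).mpr hl.symm
  obtain ⟨β, h4, h5⟩ := Multiset.map_eq_singleton.mp h3
  have h6 : (D.X.erase (irrOne G)).erase α = {β} := Finset.val_inj.mp (by rw [erase_val, h4]; rfl)
  have h7 : β ∈ (D.X.erase (irrOne G)).erase α := h6 ▸ mem_singleton_self β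
  refine ⟨α, β, ne_of_mem_erase h1, ne_of_mem_erase (mem_of_mem_erase h7), (ne_of_mem_erase h7).symm,
    ?_, h2, h5⟩
  rw [← insert_erase D.one_mem, ← insert_erase (s := D.X.erase _) h1, h6]

namespace U33

instance f7 : Fact (Nat.Prime 7) := ⟨by norm_num⟩

theorem chk7 : optsCheck2 6048 77 7 (fun _ _ => true) (fun _ _ _ => true) [] (fun _ => [])
    (fun e k z l => !bt0 (7 * k) 2 5 z l || (e, k, z, l) == (3, 1, -32, [-6, -27])) = true := by
  decide +kernel

variable [IsSimpleGroup G]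

theorem hna (hG : Nat.card G = 6048) : ∃ a b : G, a * b ≠ b * a :=
  nonab (by rw [hG]; norm_num)

theorem data (hG : Nat.card G = 6048) {x : G} (hx : Syl 7 x) {ζ : ℂ} (hζ : IsPrimitiveRoot ζ 7)
    (D : PrinData 7 x ζ) : SC 7 x ∧ ee x = 3 ∧ zz D = -32 ∧ ([-6, -27] : List ℤ) = SX D := by
  obtain ⟨l, hl, h⟩ := opts_sound2 (hna hG) hx hζ D hG rfl (fun _ _ _ => rfl) (by simp) (by simp) chk7
  rw [bt0_of (hna hG) D hx hζ hl Nat.prime_two (by rw [hG]; decide) (by rw [hG]; decide)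
    (by decide)] at h
  simp only [Bool.not_true, Bool.false_or, beq_iff_eq, Prod.mk.injEq] at h
  exact ⟨sc_of_kk hx h.2.1, h.1, h.2.2.1, h.2.2.2 ▸ hl⟩

/-- The characters of degree 6, 27 and 32. -/
structure B7 (α β γ : IrrCharacter G) : Prop where
  card : Nat.card G = 6048
  dα : dg α = 6
  dβ : dg β = 27
  dγ : dg γ = 32
  uα : ∀ χ : IrrCharacter G, dg χ = dg α → χ = α
  sc : ∀ g : G, g ≠ 1 → ¬ 7 ∣ orderOf g → ¬ 7 ∣ cC g
  sing : ∀ g : G, 7 ∣ orderOf g → (α : G → ℂ) g = -1 ∧ (β : G → ℂ) g = -1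
  reg : ∀ g : G, ¬ 7 ∣ orderOf g → (γ : G → ℂ) g = (α : G → ℂ) g + (β : G → ℂ) g - 1

theorem exists_B7 (hG : Nat.card G = 6048) : ∃ α β γ : IrrCharacter G, B7 α β γ := by
  classical
  obtain ⟨x, hx⟩ := exists_syl (G := G) (p := 7) (by rw [hG]; norm_num) (by rw [hG]; norm_num)
  obtain ⟨ζ, hζ, ⟨D⟩⟩ := exists_data hx
  obtain ⟨hs, -, hz, hl⟩ := data hG hx hζ D
  obtain ⟨α, β, h1, h2, h3, h4, h5, h6⟩ := X_eq D hl
  have m1 : α ∈ D.X := by simp [h4]
  have m2 : β ∈ D.X := by simp [h4]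
  have d1 : dg α = 6 := by rw [← natAbs_sd D m1, h5]; rfl
  have d2 : dg β = 27 := by rw [← natAbs_sd D m2, h6]; rfl
  have d3 : z0 D = 32 := by rw [← natAbs_zz, hz]; rfl
  rw [sd, d1] at h5
  rw [sd, d2] at h6
  rw [zz, d3] at hz
  have e1 : D.δ α = -1 := by omega
  have e2 : D.δ β = -1 := by omega
  have e3 : D.ε = -1 := by omega
  refine ⟨α, β, D.Y 1, hG, d1, d2, (dg_of_mem_Ys D (Y_mem_Ys D 1)).trans d3, fun χ h => ?_,
    fun g h h' => not_dvd_cC hs h fun e => h' e.symm.dvd,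
    fun g h => ⟨by simp [D.X_val α m1 g h, e1], by simp [D.X_val β m2 g h, e2]⟩, fun g h => ?_⟩
  · rcases bz_of_sc D hs χ with h' | h' | h'
    · simp only [h4, mem_insert, mem_singleton] at h'
      rcases h' with rfl | rfl | rfl
      exacts [by rw [dg_one] at h; omega, rfl, by omega]
    · have := dg_of_mem_Ys D h'; omega
    · omega
  · have := D.reg_eq 1 g h
    rw [h4, sum_insert (by simp [h1.symm, h2.symm]), sum_pair h3, D.δ_one, e1, e2, e3] at this
    simp only [irrOne] at this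
    push_cast at this
    linear_combination -this

/-- Non-trivial 3-elements. -/
def S3 (g : G) : Prop := g ≠ 1 ∧ ¬ 2 ∣ orderOf g ∧ ¬ 7 ∣ orderOf g

namespace B7
variable {α β γ : IrrCharacter G} (h : B7 α β γ)
include h

theorem ne1 : α ≠ irrOne G := fun e => by have := h.dα; rw [e, dg_one] at this; omega

theorem cast (g : G) : (α : G → ℂ) g = cv g α := (cast_of_unique h.uα g).symm

theorem cv_pow (g : G) {k : ℕ} (hk : k.Coprime 6048) : cv (g ^ k) α = cv g α :=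
  cv_eq (by rw [pow_of_unique h.uα g (h.card ▸ hk), h.cast])

theorem cv_inv (g : G) : cv g⁻¹ α = cv g α :=
  cv_eq (by rw [char_inv (irr_isCharacter α), h.cast, map_intCast])

theorem γ0 {g : G} (hg : 2 ∣ orderOf g) : (γ : G → ℂ) g = 0 :=
  irr_eq_zero_of_defect_zero γ.2 Nat.prime_two (n := 5) (by rw [h.card]; decide)
    (by rw [h.card]; decide) (dg_cast γ).symm (by rw [h.dγ]; decide) hg

theorem β0 {g : G} (hg : 3 ∣ orderOf g) : (β : G → ℂ) g = 0 :=
  irr_eq_zero_of_defect_zero β.2 Nat.prime_three (n := 3) (by rw [h.card]; decide)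
    (by rw [h.card]; decide) (dg_cast β).symm (by rw [h.dβ]; decide) hg

theorem s3_iff {g : G} : S3 g ↔ g ≠ 1 ∧ g ^ 27 = 1 := by
  refine and_congr_right fun h1 => ⟨fun h2 => orderOf_dvd_iff_pow_eq_one.mp ?_, fun h2 => ?_⟩
  · have : orderOf g ∣ 6048 := h.card ▸ orderOf_dvd_natCard g
    exact (f7.out.coprime_iff_not_dvd.mpr h2.2).symm.dvd_of_dvd_mul_left
      (((Nat.prime_two.coprime_iff_not_dvd.mpr h2.1).symm.pow_right 5).dvd_of_dvd_mul_left this)
  · have := orderOf_dvd_of_pow_eq_one h2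
    exact ⟨fun e => absurd (e.trans this) (by decide), fun e => absurd (e.trans this) (by decide)⟩

theorem ord {g : G} (hg : S3 g) : 3 ∣ orderOf g ∧ ∃ k, orderOf g = 3 ^ k := by
  obtain ⟨k, -, e⟩ := (Nat.dvd_prime_pow Nat.prime_three (m := 3)).mp
    (orderOf_dvd_of_pow_eq_one (h.s3_iff.mp hg).2)
  exact ⟨e ▸ dvd_pow_self 3 fun e' => hg.1 (orderOf_eq_one_iff.mp (by rw [e, e', pow_zero])), k, e⟩

theorem γ3 {g : G} (hg : S3 g) : (γ : G → ℂ) g = (cv g α - 1 : ℤ) := by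
  rw [h.reg g hg.2.2, h.β0 (h.ord hg).1, h.cast]; simp

theorem vals {g : G} (hg : S3 g) : (cv g α = 3 ∧ 112 ∣ (CC g).index) ∨
    (cv g α = 0 ∧ 224 ∣ (CC g).index) ∨ (cv g α = -3 ∧ 56 ∣ (CC g).index) := by
  have h1 := modEq_of_val Nat.prime_three (h.ord hg).2 (h.cast g)
  have h2 := natAbs_lt_of_val (hna h.card) h.ne1 hg.1 (h.cast g)
  have h3 := dvd_of_val (h.γ3 hg)
  have h4 : 7 ∣ (CC g).index := ((Nat.Prime.dvd_mul f7.out).mp (by
    rw [index_mul_card, h.card]; decide)).resolve_right (h.sc g hg.1 hg.2.2)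
  rw [h.dα] at h1 h2
  rw [h.dγ, ← CC] at h3
  have h5 : cv g α = 3 ∨ cv g α = 0 ∨ cv g α = -3 := by omega
  rcases h5 with e | e | e <;> rw [e] at h3 ⊢ <;> omega

open Classical in
theorem sum_γ [Fintype G] {χ : IrrCharacter G} (h1 : χ ≠ γ) (h2 : ∀ g, 7 ∣ orderOf g →
    (χ : G → ℂ) g = -1) {f : G → ℤ} (h3 : ∀ g, S3 g → (χ : G → ℂ) g = f g) :
    32 * (dg χ + 1) + ∑ g ∈ univ.filter S3, (cv g α - 1) * (f g + 1) = 0 := by
  have e1 := classInner_irr_irr γ χ
  have e2 := classInner_irr_irr γ (irrOne G)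
  rw [if_neg h1.symm] at e1
  rw [if_neg fun e => by have := h.dγ; rw [e, dg_one] at this; omega] at e2
  have e := (classInner_add_right _ _ _).trans (congrArg₂ (· + ·) e1 e2)
  rw [classInner_def, add_zero, mul_eq_zero, inv_eq_zero, or_iff_right natCard_ne_zero,
    ← add_sum_erase _ _ (mem_univ 1), ← sum_subset (s₁ := univ.filter S3)
      (fun g hg => by simpa using (mem_filter.mp hg).2.1) fun g hg hg' => by
        by_cases c : 2 ∣ orderOf g
        · rw [h.γ0 c, zero_mul]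
        · have : 7 ∣ orderOf g := by simpa [S3, c, ne_of_mem_erase hg] using hg'
          simp [h2 g this, irrOne], sum_congr rfl fun g hg => by
      rw [h.γ3 (mem_filter.mp hg).2, Pi.add_apply, h3 g (mem_filter.mp hg).2]] at e
  simp only [Pi.add_apply, ← dg_cast, h.dγ, irrOne, map_add, map_one, map_intCast,
    map_natCast] at e
  exact_mod_cast e

end B7

end U33

end CfsgLib.SmallRec
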