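import Mathlib
import Cfsg.Agent.Lib.SmallRec.U33a
import Cfsg.Agent.Lib.DefectOne.B43_Cnt

/-!
A simple group of order 6048: the Sylow 3-subgroups.
-/

set_option autoImplicit false

open scoped Classical

namespace CfsgLib.SmallRec.U33

open Cfsg CfsgLib.Char CfsgLib.Block CfsgLib.DefectOne CfsgLib.DefectOne.B43 CfsgLib.Tuan
  CfsgLib.ChTab CfsgLib.MathRec Subgroup Finset MulAction

variable {G : Type*} [Group G] [Finite G] [Fintype G] [IsSimpleGroup G]

/-- The 3-elements of `H` with value `c`. -/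
noncomputable def cls (α : IrrCharacter G) (H : Subgroup G) (c : ℤ) : Finset G :=
  univ.filter fun g => g ∈ H ∧ S3 g ∧ cv g α = c

omit [Finite G] [IsSimpleGroup G] in
theorem mem_cls {α : IrrCharacter G} {H : Subgroup G} {c : ℤ} {g : G} :
    g ∈ cls α H c ↔ g ∈ H ∧ S3 g ∧ cv g α = c := by simp [cls]

omit [Finite G] [Fintype G] [IsSimpleGroup G] in
theorem S3.of_isConj {a b : G} (e : IsConj a b) (h : S3 a) : S3 b := by
  obtain ⟨c, rfl⟩ := isConj_iff.mp e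
  have : orderOf (c * a * c⁻¹) = orderOf a := (MulAut.conj c).orderOf_eq a
  exact ⟨fun e' => h.1 (conj_eq_one_iff.mp e'), this ▸ h.2⟩

omit [Fintype G] [IsSimpleGroup G] in
theorem cv_of_isConj {a b : G} (e : IsConj a b) (χ : IrrCharacter G) : cv a χ = cv b χ := by
  rw [cv, val_of_isConj χ e, cv]

namespace B7
variable {α β γ : IrrCharacter G} (h : B7 α β γ)
include h

theorem sum_S3 (H : Subgroup G) (F : ℤ → ℤ) :
    ∑ g ∈ univ.filter (fun g => g ∈ H ∧ S3 g), F (cv g α) = F 3 * #(cls α H 3) +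
      F 0 * #(cls α H 0) + F (-3) * #(cls α H (-3)) := by
  rw [← sum_fiberwise_of_maps_to (t := {3, 0, -3}) (g := fun g => cv g α) fun g hg => by
    have := h.vals (mem_filter.mp hg).2.2; simp; tauto]
  have : ∀ c, ∑ g ∈ (univ.filter fun g => g ∈ H ∧ S3 g).filter (fun g => cv g α = c), F (cv g α) =
      F c * #(cls α H c) := fun c => by
    rw [sum_congr rfl fun g hg => congrArg F (mem_filter.mp hg).2, sum_const, nsmul_eq_mul, mul_comm,
      filter_filter]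
    simp only [cls, and_assoc]
  rw [sum_insert (by decide), Finset.sum_pair (by decide), this, this, this, add_assoc]

theorem sum_sub {Q : Subgroup G} (hQ : IsPGroup 3 Q) (F : ℤ → ℤ) :
    ∑ g ∈ univ.filter (· ∈ Q), F (cv g α) = F 6 + (F 3 * #(cls α Q 3) +
      F 0 * #(cls α Q 0) + F (-3) * #(cls α Q (-3))) := by
  rw [← h.sum_S3, ← add_sum_erase _ _ (a := 1) (by simp), cv_one, h.dα]
  congr 2
  ext g
  simp only [mem_erase, mem_filter, mem_univ, true_and]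
  refine ⟨fun ⟨h1, h2⟩ => ⟨h2, h1, ?_⟩, fun h1 => ⟨h1.2.1, h1.1⟩⟩
  obtain ⟨k, hk⟩ := IsPGroup.iff_orderOf.mp hQ ⟨g, h2⟩
  rw [← orderOf_mk g h2, hk]
  exact ⟨fun e => absurd (Nat.prime_two.dvd_of_dvd_pow e) (by decide),
    fun e => absurd (f7.out.dvd_of_dvd_pow e) (by decide)⟩

theorem sub {Q : Subgroup G} (hQ : IsPGroup 3 Q) :
    (∃ n : ℕ, (6 : ℤ) + 3 * #(cls α Q 3) - 3 * #(cls α Q (-3)) = Nat.card Q * n) ∧
    ∃ n : ℕ, classInner (fun g : Q => (α : G → ℂ) g) (fun g : Q => (α : G → ℂ) g) = n ∧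
      (36 : ℤ) + 9 * #(cls α Q 3) + 9 * #(cls α Q (-3)) = Nat.card Q * n := by
  obtain ⟨n, -, h1⟩ := sum_subgroup (irr_isCharacter α) Q fun g _ => h.cast g
  obtain ⟨m, h2, h3⟩ := sum_subgroup (isCharacter_mul (irr_isCharacter α) (irr_isCharacter α)) Q
    (f := fun g => cv g α * cv g α) fun g _ => by simp [h.cast g]
  refine ⟨⟨n, by rw [← h1, h.sum_sub hQ fun a => a]; ring⟩, m, ?_,
    by rw [← h3, h.sum_sub hQ fun a => a * a]; ring⟩
  rw [← h2, ← classInner_mul_conj_one]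
  simp [h.cast]

theorem card_syl (P : Sylow 3 G) : Nat.card (P : Subgroup G) = 27 := by
  rw [P.card_eq_multiplicity, h.card]; decide +kernel

theorem cnt : cls α ⊤ 3 = ∅ ∧ #(cls α ⊤ 0) = 672 ∧ #(cls α ⊤ (-3)) = 56 := by
  have e1 := h.sum_γ (χ := α) (fun e => by have := h.dγ; have := h.dα; subst e; omega)
    (fun g hg => (h.sing g hg).1) fun g _ => h.cast g
  have e2 := h.sum_γ (χ := β) (fun e => by have := h.dγ; have := h.dβ; subst e; omega)
    (fun g hg => (h.sing g hg).2) (f := fun _ => 0) fun g hg => by simp [h.β0 (h.ord hg).1]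
  have e3 := h.sum_S3 ⊤ fun a => (a - 1) * (a + 1)
  have e4 := h.sum_S3 ⊤ fun a => (a - 1) * (0 + 1)
  simp only [mem_top, true_and] at e3 e4
  rw [e3, h.dα] at e1
  rw [e4, h.dβ] at e2
  have e5 : 112 ∣ #(cls α ⊤ 3) := dvd_card_filter _
    (fun a b e ha => ⟨trivial, ha.2.1.of_isConj e, cv_of_isConj e α ▸ ha.2.2⟩)
    fun g hg => by have := h.vals hg.2.1; have := hg.2.2; rw [← CC]; omega
  obtain ⟨P⟩ : Nonempty (Sylow 3 G) := inferInstance
  obtain ⟨⟨n, e6⟩, m, -, e7⟩ := h.sub P.isPGroup'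
  rw [h.card_syl] at e6 e7
  have := card_le_card (s := cls α P (-3)) (t := cls α ⊤ (-3)) fun g hg =>
    mem_cls.mpr ⟨trivial, (mem_cls.mp hg).2⟩
  rw [← card_eq_zero]
  omega

theorem le_two {Q : Subgroup G} (hQ : IsPGroup 3 Q) : #(cls α Q 3) = 0 ∧ #(cls α Q (-3)) ≤ 2 := by
  have h1 : cls α Q 3 = ∅ := subset_empty.mp (h.cnt.1 ▸ fun g hg =>
    mem_cls.mpr ⟨trivial, (mem_cls.mp hg).2⟩)
  obtain ⟨⟨n, e⟩, -⟩ := h.sub hQ
  rw [h1, card_empty] at e ⊢
  have : (0 : ℤ) ≤ Nat.card Q * n := by positivity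
  omega

theorem eq_or_inv {Q : Subgroup G} (hQ : IsPGroup 3 Q) {z w : G} (hz : z ∈ cls α Q (-3))
    (hw : w ∈ cls α Q (-3)) : z ≠ z⁻¹ ∧ (w = z ∨ w = z⁻¹) := by
  obtain ⟨h1, h2, h3⟩ := mem_cls.mp hz
  have h4 : z ≠ z⁻¹ := fun e => h2.2.1 (by
    rw [orderOf_eq_prime (p := 2) (by rw [sq, ← eq_inv_iff_mul_eq_one, ← e]) h2.1])
  refine ⟨h4, by_contra fun c => absurd (h.le_two hQ).2 (not_le.mpr (two_lt_card_iff.mpr
    ⟨w, z, z⁻¹, hw, hz, mem_cls.mpr ⟨Q.inv_mem h1, by simpa [S3] using h2, (h.cv_inv z).trans h3⟩,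
      ?_, ?_, h4⟩))⟩ <;> tauto

theorem exists_syl_mem {g : G} (hg : S3 g) : ∃ P : Sylow 3 G, g ∈ P := by
  obtain ⟨k, hk⟩ := (h.ord hg).2
  obtain ⟨P, hP⟩ := (IsPGroup.of_card (G := zpowers g) ((Nat.card_zpowers g).trans hk)).exists_le_sylow
  exact ⟨P, hP (mem_zpowers g)⟩

theorem cube {z : G} (hz : z ∈ cls α ⊤ (-3)) : z ^ 3 = 1 := by
  obtain ⟨-, h2, h3⟩ := mem_cls.mp hz
  obtain ⟨P, hP⟩ := h.exists_syl_mem h2
  have h4 := (h.s3_iff.mp h2).2
  have h5 : z ^ 5 ≠ 1 := fun e => h2.1 (by simpa using pow_gcd_eq_one.mpr ⟨e, h4⟩)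
  rcases (h.eq_or_inv P.isPGroup' (mem_cls.mpr ⟨hP, h2, h3⟩) (mem_cls.mpr ⟨pow_mem hP 5,
    h.s3_iff.mpr ⟨h5, by rw [← pow_mul, mul_comm, pow_mul, h4, one_pow]⟩,
    (h.cv_pow z (by decide)).trans h3⟩)).2 with e | e
  · exact absurd (by simpa using pow_gcd_eq_one.mpr ⟨(mul_eq_right.mp ((pow_succ z 4).symm.trans e) :
      z ^ 4 = 1), h4⟩) h2.1
  · simpa using pow_gcd_eq_one.mpr ⟨((pow_succ z 5).trans (eq_inv_iff_mul_eq_one.mp e) :
      z ^ 6 = 1), h4⟩

theorem conj_mem {c : ℤ} {H : Subgroup G} {z w : G} (hz : z ∈ cls α ⊤ c) (e : IsConj z w)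
    (hw : w ∈ H) : w ∈ cls α H c :=
  mem_cls.mpr ⟨hw, (mem_cls.mp hz).2.1.of_isConj e, cv_of_isConj e α ▸ (mem_cls.mp hz).2.2⟩

theorem index_le {c : ℤ} {z : G} (hz : z ∈ cls α ⊤ c) : (CC z).index ≤ #(cls α ⊤ c) ∧
    ((CC z).index = #(cls α ⊤ c) → ∀ w ∈ cls α ⊤ c, IsConj z w) := by
  have h1 : univ.filter (IsConj z) ⊆ cls α ⊤ c := fun w hw => h.conj_mem hz (mem_filter.mp hw).2 trivial
  have h2 : (CC z).index = #(univ.filter (IsConj z)) := by
    rw [← Fintype.card_subtype, ← Nat.card_eq_fintype_card]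
    exact Nat.eq_of_mul_eq_mul_right Nat.card_pos ((CC z).index_mul_card.trans
      (card_isConj_mul_card_centralizer z).symm)
  rw [h2]
  exact ⟨card_le_card h1, fun e w hw => (mem_filter.mp (eq_of_subset_of_card_le h1 e.ge ▸ hw)).2⟩

theorem cent {z : G} (hz : z ∈ cls α ⊤ (-3)) : cC z = 108 ∧ ∀ w ∈ cls α ⊤ (-3), IsConj z w := by
  obtain ⟨h1, h2⟩ := h.index_le hz
  have h3 := h.vals (mem_cls.mp hz).2.1
  have h4 := (mem_cls.mp hz).2.2
  have h5 := (CC z).index_mul_card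
  have h6 : (CC z).index ≠ 0 := index_ne_zero_of_finite
  rw [h.cnt.2.2] at h1 h2
  have h7 : (CC z).index = 56 := by omega
  rw [h7, h.card] at h5
  exact ⟨by change Nat.card (CC z) = _; omega, h2 h7⟩

theorem comm {P : Sylow 3 G} {z g : G} (hz : z ∈ cls α P (-3)) (hg : g ∈ P) : Commute g z := by
  obtain ⟨h1, h2, h3⟩ := mem_cls.mp hz
  obtain ⟨h4, e | e⟩ := h.eq_or_inv P.isPGroup' hz (h.conj_mem (mem_cls.mpr ⟨trivial, h2, h3⟩)
    (isConj_iff.mpr ⟨g, rfl⟩) (mul_mem (mul_mem hg h1) (inv_mem hg)))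
  · exact mul_inv_eq_iff_eq_mul.mp e
  · have c : Commute (g ^ 2) z := by
      rw [Commute, SemiconjBy, ← mul_inv_eq_iff_eq_mul,
        show g ^ 2 * z * (g ^ 2)⁻¹ = g * (g * z * g⁻¹) * g⁻¹ by rw [sq]; group, e, ← conj_inv, e, inv_inv]
    have : g ^ 27 = 1 := by
      rw [← h.card_syl P]; exact congrArg Subtype.val (pow_card_eq_one' (x := (⟨g, hg⟩ : (P : Subgroup G))))
    simpa only [← pow_mul, show 2 * 14 = 27 + 1 from rfl, pow_succ g 27, this, one_mul]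
      using c.pow_left 14

theorem cent0 {g : G} (hg : g ∈ cls α ⊤ 0) : IsPGroup 3 (CC g) := by
  have h3 := h.vals (mem_cls.mp hg).2.1
  have h4 := (mem_cls.mp hg).2.2
  obtain ⟨m, hm⟩ : 224 ∣ (CC g).index := by omega
  have h5 := (CC g).index_mul_card
  rw [h.card, hm, mul_assoc] at h5
  obtain ⟨k, -, e⟩ := (Nat.dvd_prime_pow Nat.prime_three (m := 3)).mp
    (Dvd.intro_left m (by omega) : Nat.card (CC g) ∣ 3 ^ 3)
  exact IsPGroup.of_card e

/-- The 3-elements which centralize `z` lie in one Sylow subgroup. -/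
theorem mem_of_comm {P : Sylow 3 G} {z g : G} (hz : z ∈ cls α P (-3)) (hg : g ^ 27 = 1)
    (c : Commute g z) : g ∈ P := by
  by_contra hn
  have k1 : ∀ {P : Sylow 3 G} {z}, z ∈ cls α P (-3) → (univ.filter (· ∈ P)).erase 1 ⊆
      (univ.filter S3).bipartiteAbove (fun z g => Commute g z) z := fun {P z} hz g hg => by
    simp only [mem_erase, mem_filter, mem_univ, true_and, mem_bipartiteAbove] at hg ⊢
    exact ⟨h.s3_iff.mpr ⟨hg.1, by
      rw [← h.card_syl P]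
      exact congrArg Subtype.val (pow_card_eq_one' (x := (⟨g, hg.2⟩ : (P : Subgroup G))))⟩,
      h.comm hz hg.2⟩
  have k2 : ∀ P : Sylow 3 G, #((univ.filter (· ∈ P)).erase 1) = 26 := fun P => by
    rw [card_erase_of_mem (by simp [one_mem]), ← Fintype.card_subtype, ← Nat.card_eq_fintype_card]
    exact congrArg (· - 1) (h.card_syl P)
  have k3 : #(univ.filter (S3 : G → Prop)) = 728 := by
    have := h.sum_S3 ⊤ fun _ => 1
    simp only [mem_top, true_and, h.cnt, sum_const, nsmul_eq_mul, mul_one] at this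
    exact_mod_cast this
  have e := sum_card_bipartiteAbove_eq_sum_card_bipartiteBelow (s := cls α ⊤ (-3))
    (t := univ.filter S3) fun z g => Commute g z
  have l1 := sum_lt_sum (s := cls α ⊤ (-3)) (f := fun _ => 26) (g := fun z =>
    #((univ.filter S3).bipartiteAbove (fun z g => Commute g z) z)) (fun w hw => by
      obtain ⟨Q, hQ⟩ := h.exists_syl_mem (mem_cls.mp hw).2.1
      exact k2 Q ▸ card_le_card (k1 (mem_cls.mpr ⟨hQ, (mem_cls.mp hw).2⟩)))
    ⟨z, mem_cls.mpr ⟨trivial, (mem_cls.mp hz).2⟩, k2 P ▸ card_lt_card ⟨k1 hz, fun s => hn (by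
      have := @s g (by
        simpa using ⟨h.s3_iff.mpr ⟨fun e : g = 1 => hn (e ▸ one_mem P), hg⟩, c⟩)
      simp at this; exact this.2)⟩⟩
  have l2 := sum_le_card_nsmul (univ.filter S3) (fun g => #((cls α ⊤ (-3)).bipartiteBelow
    (fun z g => Commute g z) g)) 2 fun g hg => by
      have h1 := (mem_filter.mp hg).2
      rcases h.vals h1 with ⟨e, -⟩ | ⟨e, -⟩ | ⟨e, -⟩
      · exact absurd (h.cnt.1 ▸ mem_cls.mpr ⟨trivial, h1, e⟩) (notMem_empty g)
      · exact (card_le_card fun w hw => mem_cls.mpr ⟨mem_CC.mpr (mem_filter.mp hw).2,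
          (mem_cls.mp (mem_filter.mp hw).1).2⟩).trans
          (h.le_two (h.cent0 (mem_cls.mpr ⟨trivial, h1, e⟩))).2
      · refine (card_le_card fun w hw => ?_).trans (card_le_two (a := g) (b := g⁻¹))
        obtain ⟨-, h2⟩ := mem_cls.mp (mem_filter.mp hw).1
        obtain ⟨Q, hQ⟩ := h.exists_syl_mem h2.1
        have h3 : IsPGroup 3 (zpowers g ⊔ zpowers w : Subgroup G) := by
          obtain ⟨_, a⟩ := (h.ord h1).2
          obtain ⟨_, b⟩ := (h.ord h2.1).2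
          exact (IsPGroup.of_card ((Nat.card_zpowers g).trans a)).to_sup_of_normal_right'
            (IsPGroup.of_card ((Nat.card_zpowers w).trans b)) (zpowers_le.mpr
              (centralizer_le_normalizer _ (by
                rw [Core.centralizer_zpowers]; exact mem_CC.mpr (mem_filter.mp hw).2.symm)))
        simpa using (h.eq_or_inv h3 (mem_cls.mpr ⟨mem_sup_left (mem_zpowers g), h1, e⟩)
          (mem_cls.mpr ⟨mem_sup_right (mem_zpowers w), h2⟩)).2
  rw [e, sum_const, h.cnt.2.2] at l1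
  rw [k3] at l2
  exact absurd (l1.trans_le l2) (by decide)

end B7

end CfsgLib.SmallRec.U33
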