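import Mathlib
import Cfsg.Agent.Lib.SmallRec.U33b
import Cfsg.Agent.Lib.SmallSimple.Basic
import Cfsg.Agent.Lib.Ward.Bor
import Cfsg.Agent.Lib.ONan.Main

/-!
A simple group of order 6048 is isomorphic to `PSU₃(3)`.
-/

set_option autoImplicit false

open scoped Classical

namespace CfsgLib.SmallRec.U33

open Cfsg CfsgLib.Char CfsgLib.Block CfsgLib.DefectOne CfsgLib.DefectOne.B43 CfsgLib.Tuan
  CfsgLib.ChTab CfsgLib.MathRec Subgroup Finset MulAction

variable {G : Type*} [Group G] [Finite G] [Fintype G] [IsSimpleGroup G]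

namespace B7
variable {α β γ : IrrCharacter G} (h : B7 α β γ)
include h

theorem card_two (P : Sylow 3 G) : #(cls α P (-3)) = 2 := by
  obtain ⟨⟨n, e⟩, -⟩ := h.sub P.isPGroup'
  have := h.le_two P.isPGroup'
  rw [h.card_syl] at e
  omega

theorem pow_syl {P : Sylow 3 G} {g : G} (hg : g ∈ P) : g ^ 27 = 1 := by
  rw [← h.card_syl P]
  exact congrArg Subtype.val (pow_card_eq_one' (x := (⟨g, hg⟩ : (P : Subgroup G))))

theorem ti {P Q : Sylow 3 G} {g : G} (h1 : g ≠ 1) (hP : g ∈ P) (hQ : g ∈ Q) : Q = P := by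
  refine Sylow.ext (eq_of_le_of_card_ge (fun u hu => ?_) (by rw [h.card_syl, h.card_syl]))
  have h2 := h.s3_iff.mpr ⟨h1, h.pow_syl hP⟩
  rcases h.vals h2 with ⟨e, -⟩ | ⟨e, -⟩ | ⟨e, -⟩
  · exact absurd (h.cnt.1 ▸ mem_cls.mpr ⟨trivial, h2, e⟩) (notMem_empty g)
  · obtain ⟨w, hw⟩ := card_pos.mp (h.card_two P ▸ two_pos)
    obtain ⟨v, hv⟩ := card_pos.mp (h.card_two Q ▸ two_pos)
    have c := h.comm hv hu
    refine h.mem_of_comm hw (h.pow_syl hu) ?_
    rcases (h.eq_or_inv (h.cent0 (mem_cls.mpr ⟨trivial, h2, e⟩))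
      (mem_cls.mpr ⟨mem_CC.mpr (h.comm hw hP), (mem_cls.mp hw).2⟩)
      (mem_cls.mpr ⟨mem_CC.mpr (h.comm hv hQ), (mem_cls.mp hv).2⟩)).2 with rfl | rfl
    exacts [c, Commute.inv_right_iff.mp c]
  · exact h.mem_of_comm (mem_cls.mpr ⟨hP, h2, e⟩) (h.pow_syl hu) (h.comm (mem_cls.mpr ⟨hQ, h2, e⟩) hu)

theorem mem_stab {P : Sylow 3 G} {z g : G} (hz : z ∈ cls α P (-3)) (hg : g * z * g⁻¹ ∈ P) :
    g ∈ stabilizer G P :=
  h.ti (g := g * z * g⁻¹) (fun e => (mem_cls.mp hz).2.1.1 (conj_eq_one_iff.mp e)) hg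
    (smul_mem_pointwise_smul z (MulAut.conj g) (P : Subgroup G) (mem_cls.mp hz).1)

theorem card_stab (P : Sylow 3 G) : Nat.card (Sylow 3 G) = 28 ∧
    Nat.card (stabilizer G P) = 216 := by
  obtain ⟨z, hz⟩ := card_pos.mp (h.card_two P ▸ two_pos)
  have hG : ¬ IsMulCommutative G := SmallSimple.not_comm_of_not_prime (by rw [h.card]; norm_num)
  have h1 : (stabilizer G P).index ∣ (CC z).index := index_dvd_of_le fun g hg => h.mem_stab hz (by
    rw [← (mem_CC.mp hg).eq, mul_inv_cancel_right]; exact (mem_cls.mp hz).1)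
  have h2 := (CC z).index_mul_card
  have h3 := SmallSimple.two_mul_card_dvd_factorial hG _
    (SmallSimple.sylow_normalizer_ne_top hG P (by rw [h.card]; decide))
  have h4 := card_sylow_modEq_one 3 G
  have h5 := (stabilizer G P).index_mul_card
  rw [show Nat.card (CC z) = 108 from (h.cent (mem_cls.mpr ⟨trivial, (mem_cls.mp hz).2⟩)).1,
    h.card] at h2
  rw [show (CC z).index = 56 by omega] at h1
  rw [show (normalizer ((P : Subgroup G) : Set G)).index = _ from P.card_eq_index_normalizer.symm,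
    h.card] at h3
  rw [index_stabilizer_of_transitive] at h1 h5
  have : ∀ n ∈ Nat.divisors 56, n ≡ 1 [MOD 3] → 2 * 6048 ∣ n.factorial → n = 28 := by decide +kernel
  have h6 := this _ (by simpa using h1) h4 h3
  rw [h6, h.card] at h5
  omega

theorem exists_eight {z : G} (hz : z ∈ cls α ⊤ (-3)) {g : G} (hg : g * z * g⁻¹ = z⁻¹) :
    g ^ 4 ≠ 1 := fun h4 => by
  have h3 := h.cube hz
  obtain ⟨-, h1, h2⟩ := mem_cls.mp hz
  have h5 : (α : G → ℂ) 1 + (α : G → ℂ) z + (α : G → ℂ) (z ^ 2) = 0 := by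
    rw [← dg_cast, h.dα, show z ^ 2 = z⁻¹ by rw [eq_inv_iff_mul_eq_one, ← pow_succ, h3], h.cast,
      h.cast, h.cv_inv, h2]
    norm_num
  have h6 := eight_dvd (commutator_eq_top (hna h.card)) h4 (a := 0)
    (by simpa using val_eq_zero_of_inv (irr_isCharacter α) h3 h5 hg) (h.cast _)
  rw [h.dα] at h6
  by_cases e : g ^ 2 = 1
  · rw [e, cv_one, h.dα] at h6; omega
  have c : Commute z (g ^ 2) := by
    rw [Commute.symm_iff, Commute, SemiconjBy, ← mul_inv_eq_iff_eq_mul,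
      show g ^ 2 * z * (g ^ 2)⁻¹ = g * (g * z * g⁻¹) * g⁻¹ by rw [sq]; group, hg, ← conj_inv, hg,
      inv_inv]
  have o2 : orderOf (g ^ 2) = 2 := orderOf_eq_prime (by rw [← pow_mul, h4]) e
  have k : ∀ w : G, orderOf w = 3 → Commute w (g ^ 2) → (α : G → ℂ) (w * g ^ 2) = 1 :=
    fun w o c => by
      have o6 := c.orderOf_mul_eq_mul_orderOf_of_coprime (by rw [o, o2]; decide)
      rw [o, o2] at o6
      have := h.reg _ (by rw [o6]; decide)
      rw [h.γ0 (by rw [o6]; decide), h.β0 (by rw [o6]; decide)] at this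
      linear_combination -this
  have o3 : orderOf z = 3 := orderOf_eq_prime h3 h1.1
  have h7 := sum_coset_eq_zero (irr_isCharacter α) h3 h5 (g ^ 2)
  rw [k z o3 c, k _ (by rw [orderOf_pow' _ two_ne_zero, o3]; rfl) (c.pow_left 2), h.cast] at h7
  have : cv (g ^ 2) α + 1 + 1 = 0 := by exact_mod_cast h7
  omega

theorem iso : ∃ (F : Type) (_ : Field F) (_ : Fintype F), Fintype.card F = 9 ∧
    Nonempty (G ≃* PSU 3 F 3) := by
  obtain ⟨P⟩ : Nonempty (Sylow 3 G) := inferInstance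
  obtain ⟨z, hz⟩ := card_pos.mp (h.card_two P ▸ two_pos)
  obtain ⟨c1, c2⟩ := h.card_stab P
  obtain ⟨z1, z2, z3⟩ := mem_cls.mp hz
  have hz' : z ∈ cls α ⊤ (-3) := mem_cls.mpr ⟨trivial, z2, z3⟩
  obtain ⟨g, hg⟩ := isConj_iff.mp ((h.cent hz').2 z⁻¹
    (mem_cls.mpr ⟨trivial, by simpa [S3] using z2, (h.cv_inv z).trans z3⟩))
  have h1 := h.mem_stab hz (hg ▸ inv_mem z1)
  have h2 : ∀ k : ℕ, g ^ (2 * k + 1) * z * (g ^ (2 * k + 1))⁻¹ = z⁻¹ := fun k => by
    induction k with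
    | zero => simpa using hg
    | succ k ih =>
      rw [show g ^ (2 * (k + 1) + 1) * z * (g ^ (2 * (k + 1) + 1))⁻¹ =
        g * (g * (g ^ (2 * k + 1) * z * (g ^ (2 * k + 1))⁻¹) * g⁻¹) * g⁻¹ by group, ih, ← conj_inv,
        hg, inv_inv, hg]
  have h3 : orderOf (g ^ 27) = 2 ^ 3 := orderOf_eq_prime_pow (h.exists_eight hz' (h2 13)) (by
    rw [← pow_mul, show 27 * 2 ^ (2 + 1) = 216 from rfl, ← c2]
    exact congrArg Subtype.val (pow_card_eq_one' (x := (⟨g, h1⟩ : stabilizer G P))))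
  have h4 : zpowers (g ^ 27) ≤ stabilizer G P := zpowers_le.mpr (pow_mem h1 27)
  have h5 : Nat.card (zpowers (g ^ 27)) = 2 ^ 3 := (Nat.card_zpowers _).trans h3
  have h6 : (P : Subgroup G) ≤ stabilizer G P := P.stabilizer_eq_normalizer ▸ le_normalizer
  obtain ⟨Q, hQ, hne⟩ := (IsPGroup.of_card h5).exists_fixed_point_of_prime_dvd_card_of_fixed_point
    (Sylow 3 G) (by rw [c1]; decide) (a := P) fun u => h4 u.2
  obtain ⟨s, rfl⟩ := exists_smul_eq G P Q
  exact ONan.onan' (Ward.two_trans_of_card P (s := s) (fun e => z2.1 (by simpa [e] using z1))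
    (eq_bot_iff.mpr fun u hu => by_contra fun e => hne (h.ti e hu.2 hu.1)) (by rw [c1, h.card_syl]))
    hne P (zpowers (g ^ 27)) (fun a ha u hu => by
      rw [P.stabilizer_eq_normalizer] at ha
      exact (ha u).mp hu) (fun u hu => hQ ⟨u, hu⟩) (eq_of_le_of_card_ge (sup_le h6 h4) (by
        rw [c2]
        exact Nat.le_of_dvd Nat.card_pos ((show Nat.Coprime 27 8 by decide).mul_dvd_of_dvd_of_dvd
          (h.card_syl P ▸ card_dvd_of_le le_sup_left) (h5 ▸ card_dvd_of_le le_sup_right :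
            2 ^ 3 ∣ _)))) Nat.prime_three (by decide) one_pos c1 (h.card_syl P) inferInstance
    (by rw [h5]; rfl)

theorem exists_nine : ∃ g : G, S3 g ∧ Ratl g ∧ cC g = 9 := by
  have k : ∀ g ∈ cls α ⊤ 0, (CC g).index = 672 ∨ cC g = 27 := fun g hg => by
    have h1 := (h.index_le hg).1
    have h2 := h.vals (mem_cls.mp hg).2.1
    have h3 := (mem_cls.mp hg).2.2
    have h4 := (CC g).index_mul_card
    have h5 : (CC g).index ≠ 0 := index_ne_zero_of_finite
    rw [h.cnt.2.1] at h1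
    rw [h.card] at h4
    have h6 : (CC g).index = 672 ∨ (CC g).index = 448 ∨ (CC g).index = 224 := by omega
    change _ ∨ Nat.card (CC g) = 27
    rcases h6 with e | e | e <;> rw [e] at h4 ⊢ <;> omega
  by_cases e : ∃ g ∈ cls α ⊤ 0, (CC g).index = 672
  · obtain ⟨g, hg, e⟩ := e
    obtain ⟨-, h1, h2⟩ := mem_cls.mp hg
    have h3 := (CC g).index_mul_card
    rw [e, h.card] at h3
    have h4 : cC g = 9 := by change Nat.card (CC g) = 9; omega
    refine ⟨g, h1, fun n hn => ?_, h4⟩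
    obtain ⟨m, h5⟩ := exists_pow_eq_self_of_coprime hn
    have h6 : S3 (g ^ n) := by
      rw [S3, Ne, ← orderOf_eq_one_iff, hn.symm.orderOf_pow, orderOf_eq_one_iff]
      exact h1
    rcases h.vals h6 with ⟨e', -⟩ | ⟨e', -⟩ | ⟨e', -⟩
    · exact absurd (h.cnt.1 ▸ mem_cls.mpr ⟨trivial, h6, e'⟩) (notMem_empty (g ^ n))
    · exact (h.index_le hg).2 (e.trans h.cnt.2.1.symm) _ (mem_cls.mpr ⟨trivial, h6, e'⟩)
    · have := cC_dvd_of_pow h5
      rw [h4, (h.cent (mem_cls.mpr ⟨trivial, h6, e'⟩)).1] at this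
      omega
  exfalso
  obtain ⟨P⟩ : Nonempty (Sylow 3 G) := inferInstance
  have c : ∀ a b : (P : Subgroup G), a * b = b * a := fun ⟨a, ha⟩ ⟨b, hb⟩ => Subtype.ext (by
    change Commute a b
    by_cases h1 : b = 1
    · simp [h1]
    have h2 := h.s3_iff.mpr ⟨h1, h.pow_syl hb⟩
    rcases h.vals h2 with ⟨e', -⟩ | ⟨e', -⟩ | ⟨e', -⟩
    · exact absurd (h.cnt.1 ▸ mem_cls.mpr ⟨trivial, h2, e'⟩) (notMem_empty b)
    · have h3 := mem_cls.mpr ⟨mem_top b, h2, e'⟩
      obtain ⟨Q, hQ⟩ := (h.cent0 h3).exists_le_sylow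
      rw [h.ti h1 hb (hQ (self_mem_CC b))] at hQ
      exact (mem_CC.mp (eq_of_le_of_card_ge hQ (by
        rw [h.card_syl]; exact ((k b h3).resolve_left fun e' => e ⟨b, h3, e'⟩).ge) ▸ ha)).symm
    · exact h.comm (mem_cls.mpr ⟨hb, h2, e'⟩) ha)
  obtain ⟨-, n, h1, h2⟩ := h.sub P.isPGroup'
  rw [h.card_two, (h.le_two P.isPGroup').1, h.card_syl] at h2
  obtain ⟨M, hM⟩ := exists_dec (isCharacter_restrict (P : Subgroup G) (irr_isCharacter α))
  have h3 := hM.dg (n := 6) (by simp [← dg_cast, h.dα])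
  rw [Multiset.map_congr (g := fun _ => 1) rfl fun ψ _ => by
    have := (dg_cast ψ).trans (comm_iff_forall_irr_one.mp c ψ ψ.2)
    exact_mod_cast this] at h3
  rw [hM.inner hM, Nat.cast_inj] at h1
  have := Multiset.card_nsmul_le_sum (s := M.map fun ψ => M.count ψ) (a := 1) fun a ha => by
    obtain ⟨ψ, hψ, rfl⟩ := Multiset.mem_map.mp ha
    exact Multiset.count_pos.mpr hψ
  simp at h3 this
  omega

end B7

theorem chkD : enumQ ((([6, -6, 3, 0] ×ˢ divs 6048 77).filter fun r =>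
    scrow 7 3 (-32) [-6, -27] r.2 r.1).flatMap fun r => ((irange 3).filter fun s : ℤ =>
      (s - r.2) % 3 == 0 && (r.2 != 1 || s == 1)).map fun s => (r.2, r.1, s))
    [(fun r => r.1 * r.1, 0, 6048), (fun r => r.2.1 * r.2.1, 1, 126),
      (fun r => r.2.2 * r.2.2, 2, 9), (fun r => if r.2.1 = 0 then 0 else r.1 * r.1, 1, 2814)]
    [(fun r => r.1 * r.2.1, 1, 0), (fun r => r.1 * r.2.2, 2, 0), (fun r => r.2.1 * r.2.2, 1, 0)] [] []
    (fun l => (l.any fun r => r.1 == 6) && (l.any fun r => r.1 % 14 == 0) &&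
      l.any fun r => r.1 % 21 == 0) 200 = true := by
  decide +kernel

omit [Fintype G] in
theorem degrees (hG : Nat.card G = 6048) : (∃ χ : IrrCharacter G, dg χ = 6) ∧
    (∃ χ : IrrCharacter G, 14 ∣ dg χ) ∧ ∃ χ : IrrCharacter G, 21 ∣ dg χ := by
  haveI := Fintype.ofFinite G
  obtain ⟨α, β, γ, h⟩ := exists_B7 hG
  obtain ⟨g, h1, h2, h3⟩ := h.exists_nine
  obtain ⟨x, hx⟩ := exists_syl (G := G) (p := 7) (by rw [hG]; norm_num) (by rw [hG]; norm_num)
  obtain ⟨ζ, hζ, ⟨D⟩⟩ := exists_data hx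
  obtain ⟨hs, he, hz, hl⟩ := data hG hx hζ D
  have h4 := sum_vv_sq hx
  rw [he, kk_of_sc hs] at h4
  obtain ⟨l, -, -, hg⟩ := enumQ_finset chkD univ (fun χ => (dg χ, vv 7 x χ, cv g χ)) (fun χ _ => by
      have a1 := scrow_of D hs hζ hl χ
      rw [he, hz] at a1
      simp only [List.mem_flatMap, List.mem_filter, List.mem_map, Bool.and_eq_true,
        Bool.or_eq_true, beq_iff_eq, bne_iff_ne, ← Int.dvd_iff_emod_eq_zero]
      refine ⟨(vv 7 x χ, dg χ), ⟨List.mem_product.mpr ⟨?_, mem_divs_dg hG (by norm_num) χ⟩, a1⟩, _,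
        ⟨mem_irange_of_sum (by rw [sum_cv_sq h2, h3]; decide) χ,
          modEq_of_val Nat.prime_three (h.ord h1).2 (cv_cast h2 χ).symm,
          one_row (hna hG) (cv_irrOne g) χ⟩, rfl⟩
      simp [scrow, b0row, show Int.sign 32 = 1 from rfl] at a1 ⊢; omega)
    (by
      simp only [List.forall_mem_cons, List.not_mem_nil, false_imp_iff, implies_true, and_true,
        sum_dg_sq_int, hG, h4, sum_cv_sq h2, h3]
      rw [sum_sc D hs hζ (fun d v => if v = 0 then 0 else d * d) (by simp), ← hl, he, hz]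
      decide)
    (by simp [sum_dg_vv hx, sum_dg_cv h2 h1.1, sum_vv_cv hx h2 fun e => h1.2.2 e.symm.dvd])
    (by simp) (by simp)
  simp only [Bool.and_eq_true, List.any_map, List.any_eq_true, Function.comp_apply, beq_iff_eq,
    ← Nat.dvd_iff_mod_eq_zero] at hg
  exact ⟨hg.1.1.imp fun _ h => h.2, hg.1.2.imp fun _ h => h.2, hg.2.imp fun _ h => h.2⟩

omit [Fintype G] in
theorem uniq (hG : Nat.card G = 6048) : ∃ (F : Type) (_ : Field F) (_ : Fintype F),
    Fintype.card F = 9 ∧ Nonempty (G ≃* PSU 3 F 3) := by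
  haveI := Fintype.ofFinite G
  obtain ⟨α, β, γ, h⟩ := exists_B7 hG
  exact h.iso

end CfsgLib.SmallRec.U33
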